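import Cfsg.Agent.EqLemmas
import Cfsg.Agent.Lib.AbelianSylow.Chars.Values
import Cfsg.Agent.Lib.Coprime.Invariant
import Cfsg.Agent.Lib.Coprime.Factorization

/-!
# Groups of Ree type with abelian Sylow 3-subgroups: the local part (owner: helper56)

Assume `Q = q = 3 ^ k`, `|G| = q³ (q³ + 1) (q - 1)` and abelian Sylow 3-subgroups.

* `eq_one_of_inverted`  : a 3-element centralised and inverted by commuting involutions is trivial
* `exists_borel`        : a subgroup `P ≥ U` of order `q³` normalised by `t` and `N_K(U)`, trivial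
  intersection with the conjugates outside `borel t K U P = P N_K(U) ⟨t⟩`
-/

set_option autoImplicit false
set_option linter.unusedSectionVars false
set_option linter.style.haveILetI false

namespace Cfsg.Agent.AbelianSylow.ReeSylow

open Subgroup Chars ReeInverted

universe u

variable {G : Type u} [Group G] [Finite G]

/-- The hypotheses of the refutation. -/
structure Hyp (q k : ℕ) (Q : ℤ) (G : Type u) [Group G] : Prop where
  pow : q = 3 ^ k
  plus : Q = (q : ℤ)
  order : Nat.card G = q ^ 3 * ((q ^ 3 + 1) * (q - 1))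
  abelian : ∀ P : Sylow 3 G, ∀ x ∈ (P : Subgroup G), ∀ y ∈ (P : Subgroup G), x * y = y * x

/-- `P N_K(U) ⟨t⟩`. -/
def borel (t : G) (K U P : Subgroup G) : Subgroup G := P ⊔ (normK K U ⊔ zpowers t)

/-- The data of the point stabiliser. -/
structure Borel (t : G) (K U P : Subgroup G) (q : ℕ) : Prop where
  le : U ≤ P
  card : Nat.card P = q ^ 3
  comm : ∀ x ∈ P, ∀ y ∈ P, x * y = y * x
  norm_t : ∀ x ∈ P, t * x * t ∈ P
  cent : ∀ x ∈ P, Commute x t → x ∈ U
  norm : borel t K U P ≤ normalizer (P : Set G)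
  card_borel : Nat.card (borel t K U P) = q ^ 3 * (q - 1)
  mem_borel : ∀ g : G, g ∈ borel t K U P ↔
    ∃ p ∈ P, ∃ j, (j ∈ normK K U ∨ t * j ∈ normK K U) ∧ p * j = g
  ti : ∀ g : G, g ∉ borel t K U P → ∀ x ∈ P, g * x * g⁻¹ ∈ P → x = 1

/-- A group with a self-centralising involution up to odd order has a normal 2-complement. -/
theorem exists_odd_complement {t : G} (ht : orderOf t = 2) {C : Subgroup G} (htC : t ∈ C)
    (hsmall : ∀ P : Sylow 2 G, t ∈ (P : Subgroup G) → ∀ z ∈ C, z ∈ (P : Subgroup G) → z = 1 ∨ z = t) :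
    ∃ W : Subgroup G, W ≤ C ∧ Odd (Nat.card W) ∧ (∀ z ∈ C, Odd (orderOf z) → z ∈ W) := by
  classical
  haveI : Fact (Nat.Prime 2) := ⟨Nat.prime_two⟩
  set τ : C := ⟨t, htC⟩
  have hoτ : orderOf τ = 2 := by rw [← orderOf_coe]; exact ht
  obtain ⟨P, hP⟩ := (IsPGroup.of_card (G := zpowers τ) (p := 2) (n := 1)
    (by rw [Nat.card_zpowers, hoτ, pow_one])).exists_le_sylow
  have hτP : τ ∈ (P : Subgroup C) := hP (mem_zpowers τ)
  obtain ⟨R, hR⟩ := (P.2.map C.subtype).exists_le_sylow
  have hcases : ∀ z ∈ (P : Subgroup C), z = 1 ∨ z = τ := fun z hz =>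
    (hsmall R (hR (mem_map_of_mem C.subtype hτP)) z z.2 (hR (mem_map_of_mem C.subtype hz))).imp
      (fun e => Subtype.ext e) (fun e => Subtype.ext e)
  have hnc : normalizer ((P : Subgroup C) : Set C) ≤ centralizer ((P : Subgroup C) : Set C) := by
    intro n hn
    rw [mem_centralizer_iff]
    intro z hz
    rcases hcases z hz with rfl | rfl
    · simp
    · rcases hcases _ ((mem_normalizer_iff.1 hn τ).1 hτP) with e | e
      · rw [conj_eq_one_iff] at e
        rw [e, orderOf_one] at hoτ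
        omega
      · exact (mul_inv_eq_iff_eq_mul.1 e).symm
  set θ := MonoidHom.transferSylow P hnc with hθ
  refine ⟨θ.ker.map C.subtype, map_subtype_le _, ?_, fun z hz hodd => ?_⟩
  · rw [card_map_of_injective C.subtype_injective]
    exact Nat.odd_iff.2 (Nat.two_dvd_ne_zero.1 (MonoidHom.not_dvd_card_ker_transferSylow P hnc))
  · refine mem_map.2 ⟨⟨z, hz⟩, MonoidHom.mem_ker.2 ?_, rfl⟩
    have h1 : orderOf (θ ⟨z, hz⟩) ∣ orderOf z :=
      (orderOf_map_dvd θ _).trans (orderOf_coe (⟨z, hz⟩ : C)).symm.dvd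
    obtain ⟨n, hn⟩ := IsPGroup.iff_orderOf.1 P.2 (θ ⟨z, hz⟩)
    rw [hn] at h1
    rcases Nat.eq_zero_or_pos n with rfl | hpos
    · exact orderOf_eq_one_iff.1 hn
    · exact absurd ((dvd_pow_self 2 hpos.ne').trans h1) hodd.not_two_dvd_nat

variable {t i r w : G} {K U A T : Subgroup G} {q k a M : ℕ} {Q : ℤ}

theorem q_mod8 (S : Sec t i r w K U A T q a M Q) (H : Hyp q k Q G) : q % 8 = 3 := by
  have h1 := S.mod8; have h2 := H.plus
  omega

theorem k_pos (S : Sec t i r w K U A T q a M Q) (H : Hyp q k Q G) : 0 < k :=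
  Nat.pos_of_ne_zero fun e => by
    have h1 := S.le; have h2 := H.pow
    rw [e, pow_zero] at h2
    omega

theorem three_dvd (S : Sec t i r w K U A T q a M Q) (H : Hyp q k Q G) : 3 ∣ q :=
  H.pow ▸ dvd_pow_self 3 (k_pos S H).ne'

/-- `|G|` has 3-part `q³`. -/
theorem factorization_card (S : Sec t i r w K U A T q a M Q) (H : Hyp q k Q G) :
    (Nat.card G).factorization 3 = k * 3 := by
  obtain ⟨c, hc⟩ := three_dvd S H
  have hq := S.le
  have hne : q ^ 3 ≠ 0 := pow_ne_zero _ (by omega)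
  have hm : (q ^ 3 + 1) * (q - 1) ≠ 0 := Nat.mul_ne_zero (by omega) (by omega)
  rw [H.order, Nat.factorization_mul hne hm, Finsupp.add_apply,
    Nat.factorization_eq_zero_of_not_dvd (n := (q ^ 3 + 1) * (q - 1)) ?_, add_zero, H.pow, ← pow_mul,
    Nat.prime_three.factorization_pow, Finsupp.single_eq_same]
  intro h3
  rcases Nat.prime_three.dvd_mul.1 h3 with e | e
  · have := Nat.dvd_sub e (show 3 ∣ q ^ 3 from (three_dvd S H).trans (dvd_pow_self q three_ne_zero))
    rw [Nat.add_sub_cancel_left] at this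
    omega
  · omega

/-- An element of odd exponent commuting with `t` lies in `K`. -/
theorem mem_K_of_odd (S : Sec t i r w K U A T q a M Q) {g : G} (hg : Commute g t) {N : ℕ} (hN : Odd N)
    (hgN : g ^ N = 1) : g ∈ K := by
  rcases S.cases g hg with h | h
  · exact h
  exfalso
  refine S.t_not_mem ?_
  obtain ⟨j, rfl⟩ := hN
  have e : (t * g) ^ (2 * j + 1) = t := by
    rw [hg.symm.mul_pow, hgN, mul_one, pow_succ, pow_mul, pow_two, S.tt, one_pow, one_mul]
  exact e ▸ pow_mem h _

theorem odd_three_pow (n : ℕ) : Odd (3 ^ n) := Odd.pow (by decide)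

/-- A 3-element centralised by an involution and inverted by a commuting involution is trivial. -/
theorem eq_one_of_inverted (S : Sec t i r w K U A T q a M Q) (H : Hyp q k Q G) {e f x : G} {n : ℕ}
    (he : orderOf e = 2) (hf : f * f = 1) (hef : Commute e f) (hx : x ^ 3 ^ n = 1) (hxe : Commute x e)
    (hfx : f * x * f⁻¹ = x⁻¹) : x = 1 := by
  classical
  haveI : Fact (Nat.Prime 3) := ⟨Nat.prime_three⟩
  obtain ⟨c, hc⟩ := _root_.isConj_iff.1 (S.one_class e he)
  -- move `e` to `t`
  set φ : G ≃* G := MulAut.conj c⁻¹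
  have hφe : φ e = t := by
    show c⁻¹ * e * c⁻¹⁻¹ = t
    rw [← hc]; group
  have hxt : Commute (φ x) t := hφe ▸ hxe.map φ
  have hft : Commute (φ f) t := hφe ▸ hef.symm.map φ
  have hx' : φ x ^ 3 ^ n = 1 := by rw [← map_pow, hx, map_one]
  have hxK : φ x ∈ K := mem_K_of_odd S hxt (odd_three_pow n) hx'
  obtain ⟨g, hgK, hgg, hgx⟩ : ∃ g ∈ K, g * g = 1 ∧ g * φ x * g⁻¹ = (φ x)⁻¹ := by
    have h1 : φ f * φ x * (φ f)⁻¹ = (φ x)⁻¹ := by rw [← map_mul, ← map_inv, ← map_mul, hfx, map_inv]
    have h2 : φ f * φ f = 1 := by rw [← map_mul, hf, map_one]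
    rcases S.cases _ hft with h | h
    · exact ⟨_, h, h2, h1⟩
    · refine ⟨_, h, ?_, ?_⟩
      · rw [show t * φ f * (t * φ f) = t * (φ f * t) * φ f by group, hft.eq, ← mul_assoc t t, S.tt, one_mul, h2]
      · rw [show t * φ f * φ x * (t * φ f)⁻¹ = t * (φ f * φ x * (φ f)⁻¹) * t⁻¹ by group, h1,
          (S.comm_K _ (inv_mem hxK)).eq, mul_inv_cancel_right]
  -- a conjugate in `U`
  have hKc : (Nat.card K).factorization 3 = k := by
    have hq := S.le
    have h2 := S.card_K
    obtain ⟨j, hj⟩ : ∃ j, q ^ 2 - 1 = 2 * j := by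
      refine ⟨(q ^ 2 - 1) / 2, ?_⟩
      have : q ^ 2 % 2 = 1 := Nat.odd_iff.1 (S.odd_q.pow)
      omega
    rw [hj, show q * (2 * j) = 2 * (q * j) by ring] at h2
    have h2' : Nat.card K = q * j := by omega
    have h3 : ¬ 3 ∣ j := fun h => by
      have h4 : 3 ∣ q ^ 2 - 1 := hj ▸ dvd_mul_of_dvd_right h 2
      have h5 : 3 ∣ q ^ 2 := (three_dvd S H).trans (dvd_pow_self q two_ne_zero)
      have : 1 ≤ q ^ 2 := Nat.one_le_pow _ _ S.q_pos
      omega
    rw [h2', Nat.factorization_mul (by omega) (by rintro rfl; simp at h3), Finsupp.add_apply,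
      Nat.factorization_eq_zero_of_not_dvd h3, add_zero, H.pow, Nat.prime_three.factorization_pow,
      Finsupp.single_eq_same]
  let PU : Sylow 3 K := Sylow.ofCard (U.subgroupOf K) (by
    rw [hKc, ← H.pow, ← S.card_U]
    exact Nat.card_congr (subgroupOfEquivOfLe S.U_le).toEquiv)
  have hp : IsPGroup 3 (zpowers (⟨φ x, hxK⟩ : K)) := by
    obtain ⟨m, -, hm⟩ := (Nat.dvd_prime_pow Nat.prime_three).1
      (orderOf_dvd_of_pow_eq_one (show (⟨φ x, hxK⟩ : K) ^ 3 ^ n = 1 from Subtype.ext hx'))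
    exact IsPGroup.of_card (n := m) (by rw [Nat.card_zpowers, hm])
  obtain ⟨R, hR⟩ := hp.exists_le_sylow
  obtain ⟨d, hd⟩ := MulAction.exists_smul_eq K R PU
  have hdU : (d : G) * φ x * (d : G)⁻¹ ∈ U := by
    have h : MulAut.conj d (⟨φ x, hxK⟩ : K) ∈ ((d • R : Sylow 3 K) : Subgroup K) := by
      rw [Sylow.coe_subgroup_smul]
      exact Subgroup.smul_mem_pointwise_smul _ _ _ (hR (mem_zpowers _))
    rw [hd] at h
    exact h
  by_contra hne
  have hne' : (d : G) * φ x * (d : G)⁻¹ ≠ 1 := fun e' => hne (by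
    rw [conj_eq_one_iff] at e'
    exact (MulEquiv.map_eq_one_iff φ).1 e')
  have hcount := S.U_inv _ hdU hne'
  rw [H.plus, sub_self, mul_eq_zero] at hcount
  have h0 : Nat.card {l : K // l * l = 1 ∧
      (l : G) * ((d : G) * φ x * (d : G)⁻¹) * (l : G)⁻¹ = ((d : G) * φ x * (d : G)⁻¹)⁻¹} = 0 := by
    rcases hcount with h | h
    · exact_mod_cast h
    · norm_num at h
  haveI : Nonempty {l : K // l * l = 1 ∧
      (l : G) * ((d : G) * φ x * (d : G)⁻¹) * (l : G)⁻¹ = ((d : G) * φ x * (d : G)⁻¹)⁻¹} := by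
    refine ⟨⟨d * ⟨g, hgK⟩ * d⁻¹, Subtype.ext ?_, ?_⟩⟩
    · show (d : G) * g * (d : G)⁻¹ * ((d : G) * g * (d : G)⁻¹) = 1
      rw [conj_mul, hgg, mul_one, mul_inv_cancel]
    · show (d : G) * g * (d : G)⁻¹ * ((d : G) * φ x * (d : G)⁻¹) * ((d : G) * g * (d : G)⁻¹)⁻¹ = _
      rw [show (d : G) * g * (d : G)⁻¹ * ((d : G) * φ x * (d : G)⁻¹) * ((d : G) * g * (d : G)⁻¹)⁻¹ =
        (d : G) * (g * φ x * g⁻¹) * (d : G)⁻¹ by group, hgx]
      group
  exact Nat.card_pos.ne' h0

theorem card_normK_odd (S : Sec t i r w K U A T q a M Q) (H : Hyp q k Q G) :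
    Odd (Nat.card (normK K U)) ∧ Nat.card (normK K U) = q * ((q - 1) / 2) := by
  have h8 := q_mod8 S H
  have h := S.card_normK
  obtain ⟨j, hj⟩ : ∃ j, q - 1 = 2 * (2 * j + 1) := ⟨(q - 3) / 4, by omega⟩
  rw [hj, show q * (2 * (2 * j + 1)) = 2 * (q * (2 * j + 1)) by ring] at h
  have h' : Nat.card (normK K U) = q * (2 * j + 1) := by omega
  refine ⟨h' ▸ S.odd_q.mul ⟨j, rfl⟩, ?_⟩
  rw [h', hj, Nat.mul_div_cancel_left _ two_pos]

theorem comm_normK (S : Sec t i r w K U A T q a M Q) : ∀ b ∈ normK K U, Commute t b :=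
  fun b hb => S.comm_K b hb.1

theorem sup_zpowers_eq (S : Sec t i r w K U A T q a M Q) :
    normK K U ⊔ zpowers t = twExt t (normK K U) S.tt (comm_normK S) := by
  refine le_antisymm (sup_le (fun b hb => Or.inl hb) (zpowers_le.2 (Or.inr ?_))) fun g hg => ?_
  · rw [S.tt]; exact one_mem _
  · rcases hg with h | h
    · exact mem_sup_left h
    · have e : g = t * (t * g) := by rw [← mul_assoc, S.tt, one_mul]
      rw [e]
      exact mul_mem (mem_sup_right (mem_zpowers t)) (mem_sup_left h)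

/-- The subgroup `P`. -/
theorem exists_P (S : Sec t i r w K U A T q a M Q) (H : Hyp q k Q G) :
    ∃ P : Subgroup G, U ≤ P ∧ Nat.card P = q ^ 3 ∧ (∀ x ∈ P, ∀ y ∈ P, x * y = y * x) ∧
      (∀ x ∈ P, t * x * t ∈ P) ∧ (∀ x ∈ P, Commute x t → x ∈ U) ∧
      ∀ b ∈ normK K U, ∀ x ∈ P, b * x * b⁻¹ ∈ P := by
  classical
  haveI : Fact (Nat.Prime 3) := ⟨Nat.prime_three⟩
  haveI : Fact (Nat.Prime 2) := ⟨Nat.prime_two⟩
  have hpos : 1 < q := lt_of_lt_of_le (by norm_num) S.le
  obtain ⟨u₀, hu₀, hu₀1⟩ : ∃ u₀ ∈ U, u₀ ≠ 1 := by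
    by_contra hno
    push Not at hno
    have : U = ⊥ := (Subgroup.eq_bot_iff_forall U).2 hno
    have h2 := S.card_U
    rw [this, Subgroup.card_bot] at h2
    omega
  set C := centralizer (U : Set G) with hC
  have htC : t ∈ C := mem_centralizer_iff.2 fun u hu => (S.comm_K u (S.U_le hu)).symm.eq
  have hcomm : ∀ z ∈ C, ∀ u ∈ U, Commute z u := fun z hz u hu => (mem_centralizer_iff.1 hz u hu).symm
  have hcU : ∀ z ∈ C, Commute z t → z ∈ K → z ∈ U := fun z hz _ hzK =>
    S.U_cent u₀ hu₀ hu₀1 z hzK (hcomm z hz u₀ hu₀)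
  obtain ⟨W, hWC, hWodd, hW⟩ := exists_odd_complement S.order_t htC (fun R hR z hzC hz => by
    have hsq : z * z = 1 := S.sylow_sq R z hz
    have hzt : Commute z t := by
      have h1 := S.sylow_sq R _ (mul_mem hz hR)
      have e1 : z⁻¹ = z := inv_eq_of_mul_eq_one_right hsq
      have e2 : t⁻¹ = t := S.t_inv
      show z * t = t * z
      rw [← inv_eq_of_mul_eq_one_right h1, mul_inv_rev, e1, e2]
    have hone : ∀ v ∈ U, v * v = 1 → v = 1 := fun v hv hvv => by
      have h1 := S.U_pow hv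
      obtain ⟨j, hj⟩ := S.odd_q
      rwa [hj, pow_succ, pow_mul, pow_two, hvv, one_pow, one_mul] at h1
    rcases S.cases z hzt with h | h
    · exact Or.inl (hone z (hcU z hzC hzt h) hsq)
    · have htz : t * z ∈ U :=
        hcU _ (mul_mem htC hzC) ((Commute.refl t).mul_left hzt) h
      have := hone _ htz (by rw [show t * z * (t * z) = t * (z * t) * z by group, hzt.eq, ← mul_assoc t t,
        S.tt, one_mul, hsq])
      exact Or.inr (by rw [← mul_one t, ← this, ← mul_assoc, S.tt, one_mul]))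
  have hodd_of : ∀ z ∈ W, Odd (orderOf z) := fun z hz =>
    hWodd.of_dvd_nat (Subgroup.orderOf_dvd_natCard W hz)
  have hWt : ∀ z ∈ W, Commute z t → z ∈ U := fun z hz hzt =>
    hcU z (hWC hz) hzt (mem_K_of_odd S hzt (hodd_of z hz) (pow_orderOf_eq_one z))
  have hWnorm : ∀ g : G, (∀ z ∈ C, g * z * g⁻¹ ∈ C) → ∀ z ∈ W, g * z * g⁻¹ ∈ W := fun g hg z hz => by
    refine hW _ (hg z (hWC hz)) ?_
    have : orderOf (MulAut.conj g z) = orderOf z := MulEquiv.orderOf_eq _ z
    rw [MulAut.conj_apply] at this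
    rw [this]; exact hodd_of z hz
  -- Sylow subgroups of `C`
  have hq3 : q ^ 3 = 3 ^ (Nat.card G).factorization 3 := by
    rw [factorization_card S H, H.pow, ← pow_mul]
  have hWle : ∀ X : Subgroup G, X ≤ C → Nat.card X = q ^ 3 → X ≤ W := fun X hX hc x hx =>
    hW x (hX hx) ((S.odd_q.pow).of_dvd_nat (hc ▸ Subgroup.orderOf_dvd_natCard X hx))
  have hsyl : ∀ X : Subgroup G, X ≤ W → Nat.card X = q ^ 3 →
      ∃ R : Sylow 3 W, (R : Subgroup W).map W.subtype = X := fun X hX hc => by
    have hcX : Nat.card (X.subgroupOf W) = 3 ^ (Nat.card G).factorization 3 := by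
      rw [Nat.card_congr (subgroupOfEquivOfLe hX).toEquiv, hc, hq3]
    have hf : (Nat.card W).factorization 3 = (Nat.card G).factorization 3 := by
      refine le_antisymm ((Nat.factorization_le_iff_dvd Nat.card_pos.ne' Nat.card_pos.ne').2
        (Subgroup.card_subgroup_dvd_card W) 3) ?_
      exact (Nat.prime_three.pow_dvd_iff_le_factorization Nat.card_pos.ne').1
        (hcX ▸ Subgroup.card_subgroup_dvd_card _)
    exact ⟨Sylow.ofCard (X.subgroupOf W) (hf.symm ▸ hcX),
      (subgroupOf_map_subtype _ _).trans (inf_eq_left.2 hX)⟩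
  have hcardW : ∀ R : Sylow 3 W, Nat.card ((R : Subgroup W).map W.subtype) = q ^ 3 := by
    obtain ⟨R₀, hR₀⟩ : ∃ X : Subgroup G, X ≤ C ∧ Nat.card X = q ^ 3 := by
      have hU : IsPGroup 3 U := IsPGroup.of_card (n := k) (by rw [S.card_U, H.pow])
      obtain ⟨R, hR⟩ := hU.exists_le_sylow
      refine ⟨R, fun x hx => mem_centralizer_iff.2 fun u hu => H.abelian R u (hR hu) x hx, ?_⟩
      rw [R.card_eq_multiplicity, hq3]
    obtain ⟨R₁, hR₁⟩ := hsyl R₀ (hWle R₀ hR₀.1 hR₀.2) hR₀.2
    intro R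
    rw [card_map_of_injective W.subtype_injective, R.card_eq_multiplicity, ← R₁.card_eq_multiplicity,
      ← card_map_of_injective W.subtype_injective, hR₁, hR₀.2]
  have hAK : zpowers t ≤ normalizer (W : Set G) := zpowers_le.2 (Coprime.mem_normalizer_of_forall
    (hWnorm t fun z hz => mul_mem (mul_mem htC hz) (inv_mem htC)))
  have hcop : (Nat.card (zpowers t)).Coprime (Nat.card W) := by
    rw [Nat.card_zpowers, S.order_t]; exact Nat.coprime_two_left.2 hWodd
  have hsolv : Group.IsSolvable ↥(zpowers t) ∨ Group.IsSolvable ↥W :=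
    Or.inl (Group.isSolvable_of_comm fun a b => mul_comm' a b)
  obtain ⟨R, hR⟩ := Coprime.exists_invariant_sylow hAK hcop hsolv 3
  set P := (R : Subgroup W).map W.subtype with hP
  have hPW : P ≤ W := map_subtype_le _
  have hPt : ∀ x ∈ P, t * x * t ∈ P := fun x hx => by
    have := (mem_normalizer_iff.1 (hR (mem_zpowers t)) x).1 hx
    rwa [S.t_inv] at this
  have hPcomm : ∀ x ∈ P, ∀ y ∈ P, x * y = y * x := fun x hx y hy => by
    let R' : Sylow 3 G := Sylow.ofCard P (by rw [← hq3]; exact hcardW R)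
    exact H.abelian R' x hx y hy
  -- `U ≤ P`
  have hUP : U ≤ P := fun u hu => by
    have hp : IsPGroup 3 (zpowers u) := by
      obtain ⟨m, -, hm⟩ := (Nat.dvd_prime_pow Nat.prime_three).1
        (orderOf_dvd_of_pow_eq_one (show u ^ 3 ^ k = 1 from H.pow ▸ S.U_pow hu))
      exact IsPGroup.of_card (n := m) (by rw [Nat.card_zpowers, hm])
    let R' : Sylow 3 G := Sylow.ofCard P (by rw [← hq3]; exact hcardW R)
    have hle : zpowers u ≤ normalizer (P : Set G) := zpowers_le.2 (Coprime.mem_normalizer_of_forall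
      fun x hx => by rwa [(hcomm x (hWC (hPW hx)) u hu).symm.eq, mul_inv_cancel_right])
    have h3 : IsPGroup 3 ↥(zpowers u ⊔ P) := hp.to_sup_of_normal_right' R'.2 hle
    have := R'.3 h3 le_sup_right
    exact (this : zpowers u ⊔ P = P).le (mem_sup_left (mem_zpowers u))
  refine ⟨P, hUP, hcardW R, hPcomm, hPt, fun x hx hxt => hWt x (hPW hx) hxt, fun b hb x hx => ?_⟩
  -- uniqueness
  set X : Subgroup G := P.map (MulAut.conj b).toMonoidHom with hX
  have hbC : ∀ z ∈ C, b * z * b⁻¹ ∈ C := fun z hz => mem_centralizer_iff.2 fun u hu => by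
    have h1 : b⁻¹ * u * b ∈ U := by simpa using conj_mem_U ⟨b, hb⟩ hu
    have h2 := (hcomm z hz _ h1).eq
    calc u * (b * z * b⁻¹) = b * (b⁻¹ * u * b * z) * b⁻¹ := by group
      _ = b * z * b⁻¹ * u := by rw [← h2]; group
  have hXW : X ≤ W := by
    rintro _ ⟨z, hz, rfl⟩
    exact hWnorm b hbC z (hPW hz)
  obtain ⟨R₂, hR₂⟩ := hsyl X hXW (by
    rw [hX, card_map_of_injective (MulAut.conj b).injective, hcardW R])
  have hR₂t : zpowers t ≤ normalizer (((R₂ : Subgroup W).map W.subtype : Subgroup G) : Set G) := by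
    rw [hR₂]
    refine zpowers_le.2 (Coprime.mem_normalizer_of_forall ?_)
    rintro _ ⟨z, hz, rfl⟩
    refine ⟨t * z * t⁻¹, by rw [S.t_inv]; exact hPt z hz, ?_⟩
    show b * (t * z * t⁻¹) * b⁻¹ = t * (b * z * b⁻¹) * t⁻¹
    have hbt : Commute t b := comm_normK S b hb
    calc b * (t * z * t⁻¹) * b⁻¹ = b * t * z * (b * t)⁻¹ := by group
      _ = t * b * z * (t * b)⁻¹ := by rw [hbt.eq]
      _ = _ := by group
  obtain ⟨c, hc, hcR⟩ := Coprime.invariant_sylow_conj hAK hcop hsolv R R₂ hR hR₂t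
  have hcU' : (c : G) ∈ U := hWt c c.2 ((mem_centralizer_iff.1 hc) t (mem_zpowers t)).symm
  have hfix : c • R = R := Sylow.smul_eq_iff_mem_normalizer.2 (Coprime.mem_normalizer_of_forall
    fun z hz => by
      have : c * z * c⁻¹ = z := Subtype.ext (by
        show (c : G) * z * (c : G)⁻¹ = z
        rw [(hcomm z (hWC z.2) c hcU').symm.eq, mul_inv_cancel_right])
      rwa [this])
  have : X = P := by rw [← hR₂, hP, ← hcR, hfix]
  exact this ▸ mem_map_of_mem (MulAut.conj b).toMonoidHom hx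

/-- The point stabiliser. -/
theorem exists_borel (S : Sec t i r w K U A T q a M Q) (H : Hyp q k Q G) :
    ∃ P : Subgroup G, Borel t K U P q := by
  classical
  haveI : Fact (Nat.Prime 3) := ⟨Nat.prime_three⟩
  obtain ⟨P, hUP, hcard, hcomm, hPt, hcent, hPB⟩ := exists_P S H
  obtain ⟨hBodd, hBcard⟩ := card_normK_odd S H
  set J := twExt t (normK K U) S.tt (comm_normK S) with hJ
  have hJN : J ≤ normalizer (P : Set G) := by
    rw [hJ, ← sup_zpowers_eq S]
    refine sup_le (fun b hb => Coprime.mem_normalizer_of_forall (hPB b hb))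
      (zpowers_le.2 (Coprime.mem_normalizer_of_forall fun x hx => ?_))
    rw [S.t_inv]; exact hPt x hx
  have hb : borel t K U P = P ⊔ J := by rw [borel, sup_zpowers_eq S]
  have hmem : ∀ g : G, g ∈ borel t K U P ↔
      ∃ p ∈ P, ∃ j, (j ∈ normK K U ∨ t * j ∈ normK K U) ∧ p * j = g := fun g => by
    rw [hb, Coprime.mem_sup_iff hJN]; rfl
  have hle : borel t K U P ≤ normalizer (P : Set G) := hb ▸ sup_le le_normalizer hJN
  have hJodd : ∀ j ∈ J, Odd (orderOf j) → j ∈ normK K U := fun j hj ho => by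
    refine hj.resolve_right fun h => ?_
    have hjK : j ∈ K := mem_K_of_odd S ((comm_normK S _ h).symm.mul_left (Commute.refl t) |> fun hc => by
      have e : t * (t * j) = j := by rw [← mul_assoc, S.tt, one_mul]
      exact e ▸ (Commute.refl t).mul_left ((comm_normK S _ h).symm)) ho (pow_orderOf_eq_one j)
    exact S.t_not_mem ((mul_mem_cancel_right hjK).1 h.1)
  have hoddP : ∀ x ∈ P, Odd (orderOf x) := fun x hx =>
    S.odd_q.pow.of_dvd_nat (hcard ▸ Subgroup.orderOf_dvd_natCard P hx)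
  have hinf : P ⊓ J = U := le_antisymm
    (fun x hx => hcent x hx.1 (S.comm_K x (hJodd x hx.2 (hoddP x hx.1)).1).symm)
    fun x hx => ⟨hUP hx, Or.inl (S.U_le_normK hx)⟩
  have hcardb : Nat.card (borel t K U P) = q ^ 3 * (q - 1) := by
    have h1 := Coprime.card_mul_inf P J
    rw [← Subgroup.coe_mul_of_right_le_normalizer_left P J hJN, hinf, S.card_U, hcard] at h1
    have h2 : Nat.card J = 2 * Nat.card (normK K U) := by
      let b : Bool × normK K U → J := fun p => ⟨(if p.1 then t else 1) * (p.2 : G), by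
        rcases p with ⟨_ | _, v⟩
        · exact Or.inl (by simp)
        · exact Or.inr (by simp [← mul_assoc, S.tt])⟩
      have hbij : Function.Bijective b := by
        have hex : ∀ u v : normK K U, t * (u : G) ≠ v := fun u v e =>
          S.t_not_mem (eq_mul_inv_of_mul_eq e ▸ mul_mem v.2.1 (inv_mem u.2.1))
        constructor
        · rintro ⟨_ | _, u⟩ ⟨_ | _, v⟩ e <;> have e' := congrArg Subtype.val e <;>
            simp only [b, Bool.false_eq_true, if_false, if_true, one_mul] at e'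
          · rw [Subtype.ext e']
          · exact absurd e'.symm (hex v u)
          · exact absurd e' (hex u v)
          · rw [Subtype.ext (mul_left_cancel e')]
        · rintro ⟨g, h | h⟩
          · exact ⟨⟨false, ⟨g, h⟩⟩, Subtype.ext (by simp [b])⟩
          · exact ⟨⟨true, ⟨t * g, h⟩⟩, Subtype.ext (by simp [b, ← mul_assoc, S.tt])⟩
      rw [← Nat.card_congr (Equiv.ofBijective b hbij), Nat.card_prod, Nat.card_eq_fintype_card (α := Bool),
        Fintype.card_bool]
    rw [h2, S.card_normK, ← hb] at h1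
    refine Nat.eq_of_mul_eq_mul_right S.q_pos (h1.trans ?_)
    ring
  refine ⟨P, hUP, hcard, hcomm, hPt, hcent, hle, hcardb, hmem, ?_⟩
  -- the trivial intersection
  set Hb := borel t K U P with hHb
  have hPle : P ≤ Hb := le_sup_left
  have hinP : ∀ g ∈ Hb, ∀ n : ℕ, g ^ 3 ^ n = 1 → g ∈ P := fun g hg n hgn => by
    let R' : Sylow 3 G := Sylow.ofCard P (by rw [hcard, factorization_card S H, H.pow, ← pow_mul])
    have hp : IsPGroup 3 (zpowers g) := by
      obtain ⟨m, -, hm⟩ := (Nat.dvd_prime_pow Nat.prime_three).1 (orderOf_dvd_of_pow_eq_one hgn)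
      exact IsPGroup.of_card (n := m) (by rw [Nat.card_zpowers, hm])
    have h3 : IsPGroup 3 ↥(zpowers g ⊔ P) :=
      hp.to_sup_of_normal_right' R'.2 ((zpowers_le.2 hg).trans hle)
    exact (R'.3 h3 le_sup_right : zpowers g ⊔ P = P).le (mem_sup_left (mem_zpowers g))
  have hexp : ∀ x ∈ P, x ^ 3 ^ (k * 3) = 1 := fun x hx => by
    rw [pow_mul, ← H.pow, ← hcard]
    exact congrArg Subtype.val (pow_card_eq_one' (x := (⟨x, hx⟩ : P)))
  have hiinv : i⁻¹ = i := inv_eq_of_mul_eq_one_right S.i_sq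
  have hiB : i ∉ normK K U := fun h => by
    have h1 := hBodd.of_dvd_nat (Subgroup.orderOf_dvd_natCard _ h)
    rw [S.order_i] at h1
    exact absurd h1 (by decide)
  -- `P` meets its conjugate by `i` trivially
  have hD : ∀ x ∈ P, i * x * i ∈ P → x = 1 := by
    have hDt : ∀ x ∈ P, i * x * i ∈ P → Commute x t → x = 1 := fun x hx hx' hxt => by
      have h1 : Commute (i * x * i) t :=
        ((S.comm_K i S.i_mem).symm.mul_left hxt).mul_left (S.comm_K i S.i_mem).symm
      by_contra hne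
      exact hiB (S.mem_normK (hcent x hx hxt) hne S.i_mem (by rw [hiinv]; exact hcent _ hx' h1))
    have hti : ∀ z, t * (i * z * i) * t = i * (t * z * t) * i := fun z => by
      calc t * (i * z * i) * t = t * i * z * (i * t) := by group
        _ = i * t * z * (t * i) := by rw [S.comm_ti.eq]
        _ = _ := by group
    intro x hx hx'
    -- `t` inverts `x`
    have hinv : t * x * t = x⁻¹ := by
      refine (eq_inv_of_mul_eq_one_left (hDt _ (mul_mem (hPt x hx) hx) ?_ ?_))
      · have e : i * (t * x * t * x) * i = t * (i * x * i) * t * (i * x * i) := by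
          rw [hti]
          calc i * (t * x * t * x) * i = i * (t * x * t) * (i * i) * x * i := by rw [S.i_sq]; group
            _ = _ := by group
        rw [e]
        exact mul_mem (hPt _ hx') hx'
      · have hc := hcomm _ (hPt x hx) _ hx
        show t * x * t * x * t = t * (t * x * t * x)
        calc t * x * t * x * t = t * x * t * x * t := rfl
          _ = x * (t * x * t) * t := by rw [hc]
          _ = x * t * x := by rw [show x * (t * x * t) * t = x * t * x * (t * t) by group, S.tt, mul_one]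
          _ = t * t * x * t * x := by rw [S.tt, one_mul]
          _ = _ := by group
    -- `i` inverts `x`
    have hinv' : i * x * i = x⁻¹ := by
      have h2 : t * (i * x * i) * t = (i * x * i)⁻¹ := by
        rw [hti, hinv, mul_inv_rev, mul_inv_rev, hiinv]; group
      have hc := hcomm _ hx _ hx'
      refine eq_inv_of_mul_eq_one_left (eq_one_of_inverted S H (e := i) (f := t) S.order_i S.tt
        S.comm_ti.symm (hexp _ (mul_mem hx' hx)) ?_ ?_)
      · show i * x * i * x * i = i * (i * x * i * x)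
        calc i * x * i * x * i = i * x * i * x * i := rfl
          _ = x * (i * x * i) * i := by rw [hc]
          _ = x * i * x := by rw [show x * (i * x * i) * i = x * i * x * (i * i) by group, S.i_sq, mul_one]
          _ = i * i * x * i * x := by rw [S.i_sq, one_mul]
          _ = _ := by group
      · rw [S.t_inv]
        calc t * (i * x * i * x) * t = t * (i * x * i) * (t * t) * x * t := by rw [S.tt]; group
          _ = (t * (i * x * i) * t) * (t * x * t) := by group
          _ = (i * x * i)⁻¹ * x⁻¹ := by rw [h2, hinv]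
          _ = _ := by rw [← mul_inv_rev, hc]
    refine eq_one_of_inverted S H (e := t * i) (f := t) (n := k * 3) ?_ S.tt ?_ (hexp _ hx) ?_
      (by rw [S.t_inv]; exact hinv)
    · refine orderOf_eq_prime ?_ ?_
      · rw [pow_two, show t * i * (t * i) = t * (i * t) * i by group, ← S.comm_ti.eq, ← mul_assoc t t,
          S.tt, one_mul, S.i_sq]
      · intro e
        exact S.t_not_mem (eq_inv_of_mul_eq_one_left e ▸ inv_mem S.i_mem)
    · exact (Commute.refl t).mul_left S.comm_ti.symm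
    · have e1 : x * t = t * x⁻¹ := by rw [← hinv, ← mul_assoc, ← mul_assoc, S.tt, one_mul]
      have e2 : x⁻¹ * i = i * x := by rw [← hinv', mul_assoc, S.i_sq, mul_one]
      show x * (t * i) = t * i * x
      rw [← mul_assoc, e1, mul_assoc, e2, ← mul_assoc]
  have hiH : i ∉ Hb := fun h => by
    obtain ⟨p, hp, j, hj, e⟩ := (hmem i).1 h
    have hjt : Commute j t := by
      rcases hj with hj | hj
      · exact (comm_normK S j hj).symm
      · have e : t * (t * j) = j := by rw [← mul_assoc, S.tt, one_mul]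
        exact e ▸ (Commute.refl t).mul_left (comm_normK S _ hj).symm
    have hpt : Commute p t := by
      have : p = i * j⁻¹ := eq_mul_inv_of_mul_eq e
      exact this ▸ (S.comm_K i S.i_mem).symm.mul_left hjt.inv_left
    have hiJ : i ∈ J := e ▸ mul_mem (show p ∈ J from Or.inl (S.U_le_normK (hcent p hp hpt))) hj
    rcases hiJ with h1 | h1
    · exact hiB h1
    · exact S.t_not_mem ((mul_mem_cancel_right S.i_mem).1 h1.1)
  -- `G = H ∪ P i H`
  let f : P × Hb → {g : G // ¬ g ∈ Hb} := fun z => ⟨z.1 * i * z.2, fun hm => hiH (by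
    have h1 := mul_mem (mul_mem (inv_mem (hPle z.1.2)) hm) (inv_mem z.2.2)
    simpa [mul_assoc] using h1)⟩
  have hinj : Function.Injective f := by
    rintro ⟨p, h⟩ ⟨p', h'⟩ e
    have e' : (p : G) * i * h = p' * i * h' := congrArg Subtype.val e
    have hpp : i * ((p' : G)⁻¹ * p) * i ∈ P := by
      refine hinP _ ?_ (k * 3) ?_
      · have : i * ((p' : G)⁻¹ * p) * i = (h' : G) * (h : G)⁻¹ := by
          calc i * ((p' : G)⁻¹ * p) * i = i * (p' : G)⁻¹ * ((p : G) * i * h) * (h : G)⁻¹ := by group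
            _ = i * i * h' * (h : G)⁻¹ := by rw [e']; group
            _ = _ := by rw [S.i_sq, one_mul]
        rw [this]
        exact mul_mem h'.2 (inv_mem h.2)
      · have h3 := conj_pow (a := i) (b := (p' : G)⁻¹ * p) (i := 3 ^ (k * 3))
        rw [hiinv] at h3
        rw [h3, hexp _ (mul_mem (inv_mem p'.2) p.2), mul_one, S.i_sq]
    have h1 : (p' : G) = p := inv_mul_eq_one.1 (hD _ (mul_mem (inv_mem p'.2) p.2) hpp)
    rw [h1] at e'
    exact Prod.ext (Subtype.ext h1.symm) (Subtype.ext (mul_left_cancel e'))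
  have hsurj : Function.Surjective f := by
    refine ((Nat.bijective_iff_injective_and_card f).2 ⟨hinj, ?_⟩).2
    have hsum : Nat.card Hb + Nat.card {g : G // ¬ g ∈ Hb} = Nat.card G := by
      rw [← Nat.card_sum]; exact Nat.card_congr (Equiv.sumCompl _)
    rw [Nat.card_prod, hcard, hcardb]
    rw [hcardb, H.order, show q ^ 3 * ((q ^ 3 + 1) * (q - 1)) = q ^ 3 * (q - 1) + q ^ 3 * (q ^ 3 * (q - 1))
      by ring] at hsum
    omega
  intro g hg x hx hgx
  obtain ⟨⟨p, h⟩, hph⟩ := hsurj ⟨g, hg⟩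
  have e : (p : G) * i * h = g := congrArg Subtype.val hph
  have hy : (h : G) * x * (h : G)⁻¹ ∈ P := (mem_normalizer_iff.1 (hle h.2) x).1 hx
  have hy' : i * ((h : G) * x * (h : G)⁻¹) * i ∈ P := by
    have h1 := mul_mem (mul_mem (inv_mem p.2) hgx) p.2
    have e2 : (p : G)⁻¹ * (g * x * g⁻¹) * p = i * ((h : G) * x * (h : G)⁻¹) * i := by
      rw [← e, mul_inv_rev, mul_inv_rev, hiinv]; group
    rwa [e2] at h1
  exact conj_eq_one_iff.1 (hD _ hy hy')

end Cfsg.Agent.AbelianSylow.ReeSylow
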