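import Cfsg.Agent.EqLemmas
import Cfsg.Agent.Lib.AbelianSylow.ReeSylow.Local
import Cfsg.Agent.Lib.AbelianSylow.Chars.Theta

/-!
# Groups of Ree type with abelian Sylow 3-subgroups: the induced characters (owner: helper56)

`α` extends `ψ ≠ 1` from `U` to `P`, trivial on the elements inverted by `t`.

* `exists_split` : characters `Φ⁺, Φ⁻, Ψ` with `Φ⁺ + Φ⁻ = Ψ`, `Φ⁺ - Φ⁻ = twInd t U ψ`, `‖Ψ‖² = q + 1`
-/

set_option autoImplicit false
set_option linter.unusedSectionVars false
set_option linter.style.haveILetI false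

namespace Cfsg.Agent.AbelianSylow.ReeSylow

open Subgroup Chars ReeInverted
open scoped ComplexConjugate

universe u

variable {G : Type u} [Group G]

/-- `P ⟨t⟩`. -/
def pExt (t : G) (P : Subgroup G) (ht : t * t = 1) (hn : ∀ x ∈ P, t * x * t ∈ P) : Subgroup G where
  carrier := {g | g ∈ P ∨ t * g ∈ P}
  one_mem' := Or.inl (one_mem _)
  mul_mem' := by
    intro a b ha hb
    rcases ha with ha | ha <;> rcases hb with hb | hb
    · exact Or.inl (mul_mem ha hb)
    · refine Or.inr ?_
      have h := mul_mem (hn a ha) hb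
      rwa [show t * a * t * (t * b) = t * a * (t * t) * b by group, ht, mul_one, mul_assoc] at h
    · exact Or.inr (by rw [← mul_assoc]; exact mul_mem ha hb)
    · refine Or.inl ?_
      have h := mul_mem (hn _ ha) hb
      rwa [show t * (t * a) * t * (t * b) = (t * t) * a * (t * t) * b by group, ht, one_mul, mul_one] at h
  inv_mem' := by
    intro a ha
    rcases ha with ha | ha
    · exact Or.inl (inv_mem ha)
    · refine Or.inr ?_
      have h := hn _ (inv_mem ha)
      rw [mul_inv_rev, inv_eq_of_mul_eq_one_right ht] at h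
      rwa [show t * (a⁻¹ * t) * t = t * a⁻¹ * (t * t) by group, ht, mul_one] at h

theorem eq_t_mul {t : G} (ht : t * t = 1) (g : G) : t * (t * g) = g := by rw [← mul_assoc, ht, one_mul]

/-- `P ⟨t⟩ = {1, t} × P`. -/
noncomputable def pExtEquiv {t : G} {P : Subgroup G} (ht : t * t = 1) (hn : ∀ x ∈ P, t * x * t ∈ P)
    (htP : t ∉ P) : Bool × ↥P ≃ ↥(pExt t P ht hn) :=
  Equiv.ofBijective (fun z => ⟨(if z.1 then t else 1) * (z.2 : G), by
      rcases z with ⟨_ | _, v⟩
      · exact Or.inl (by simp)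
      · exact Or.inr (by simp [← mul_assoc, ht])⟩) (by
    constructor
    · rintro ⟨_ | _, x⟩ ⟨_ | _, y⟩ e <;> have e' := congrArg Subtype.val e <;>
        simp only [Bool.false_eq_true, if_false, if_true, one_mul] at e'
      · rw [Subtype.ext e']
      · exact absurd (eq_mul_inv_of_mul_eq e'.symm ▸ mul_mem x.2 (inv_mem y.2)) htP
      · exact absurd (eq_mul_inv_of_mul_eq e' ▸ mul_mem y.2 (inv_mem x.2)) htP
      · rw [Subtype.ext (mul_left_cancel e')]
    · rintro ⟨g, h | h⟩
      · exact ⟨⟨false, ⟨g, h⟩⟩, Subtype.ext (by simp)⟩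
      · exact ⟨⟨true, ⟨t * g, h⟩⟩, Subtype.ext (by simp [← mul_assoc, ht])⟩)

theorem pExtEquiv_apply {t : G} {P : Subgroup G} (ht : t * t = 1) (hn : ∀ x ∈ P, t * x * t ∈ P)
    (htP : t ∉ P) (z : Bool × ↥P) : (pExtEquiv ht hn htP z : G) = (if z.1 then t else 1) * (z.2 : G) := rfl

/-- The extension of `a` to `P ⟨t⟩` with the sign `ε` at `t`. -/
noncomputable def extHom {t : G} {P : Subgroup G} (ht : t * t = 1) (hn : ∀ x ∈ P, t * x * t ∈ P)
    (htP : t ∉ P) (a : ↥P →* ℂˣ) (hinv : ∀ x : P, a ⟨t * x * t, hn x x.2⟩ = a x) (ε : ℂ) (hε : ε * ε = 1) :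
    ↥(pExt t P ht hn) →* ℂ := by
  classical
  exact
  { toFun := fun g => if (g : G) ∈ P then extendByZero P (lin a) g else ε * extendByZero P (lin a) (t * g)
    map_one' := by
      simp only [OneMemClass.coe_one]
      rw [if_pos (one_mem P), Char.extendByZero_mem P _ (one_mem P)]
      exact map_one (lin a)
    map_mul' := fun g g' => by
      have hE : ∀ {x y : G}, x ∈ P → y ∈ P →
          extendByZero P (lin a) (x * y) = extendByZero P (lin a) x * extendByZero P (lin a) y := by
        intro x y hx hy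
        rw [Char.extendByZero_mem P _ hx, Char.extendByZero_mem P _ hy,
          Char.extendByZero_mem P _ (mul_mem hx hy), ← map_mul]
        rfl
      have hT : ∀ {x : G}, x ∈ P → extendByZero P (lin a) (t * x * t) = extendByZero P (lin a) x := by
        intro x hx
        rw [Char.extendByZero_mem P _ hx, Char.extendByZero_mem P _ (hn x hx), lin_apply, lin_apply,
          hinv ⟨x, hx⟩]
      have hm : ∀ {x : G}, x ∈ pExt t P ht hn → x ∉ P → t * x ∈ P := fun hx h => hx.resolve_left h
      obtain ⟨x, hx⟩ := g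
      obtain ⟨y, hy⟩ := g'
      simp only [MulMemClass.mk_mul_mk]
      by_cases h1 : x ∈ P <;> by_cases h2 : y ∈ P
      · rw [if_pos (mul_mem h1 h2), if_pos h1, if_pos h2, hE h1 h2]
      · have h : x * y ∉ P := fun h => h2 ((mul_mem_cancel_left h1).1 h)
        have e : t * (x * y) = t * x * t * (t * y) := by
          rw [show t * x * t * (t * y) = t * x * (t * t) * y by group, ht, mul_one, mul_assoc]
        rw [if_neg h, if_pos h1, if_neg h2, e, hE (hn x h1) (hm hy h2), hT h1]
        ring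
      · have h : x * y ∉ P := fun h => h1 ((mul_mem_cancel_right h2).1 h)
        rw [if_neg h, if_neg h1, if_pos h2, ← mul_assoc, hE (hm hx h1) h2]
        ring
      · have e : x * y = t * (t * x) * t * (t * y) := by
          rw [show t * (t * x) * t * (t * y) = (t * t) * x * (t * t) * y by group, ht, one_mul, mul_one]
        rw [if_pos (e ▸ mul_mem (hn _ (hm hx h1)) (hm hy h2)), if_neg h1, if_neg h2, e,
          hE (hn _ (hm hx h1)) (hm hy h2), hT (hm hx h1)]
        linear_combination (-(extendByZero P (lin a) (t * x) * extendByZero P (lin a) (t * y))) * hε }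

theorem extHom_apply {t : G} {P : Subgroup G} (ht : t * t = 1) (hn : ∀ x ∈ P, t * x * t ∈ P)
    (htP : t ∉ P) (a : ↥P →* ℂˣ) (hinv : ∀ x : P, a ⟨t * x * t, hn x x.2⟩ = a x) (ε : ℂ) (hε : ε * ε = 1)
    (b : Bool) (x : P) :
    extHom ht hn htP a hinv ε hε (pExtEquiv ht hn htP (b, x)) = (if b then ε else 1) * lin a x := by
  classical
  show (if ((if b then t else 1) * (x : G)) ∈ P then _ else _) = _
  cases b
  · simp only [Bool.false_eq_true, if_false, one_mul]
    rw [if_pos x.2, pExtEquiv_apply]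
    simp [Char.extendByZero_coe]
  · simp only [if_true]
    rw [if_neg (fun h => htP ((mul_mem_cancel_right x.2).1 h)), pExtEquiv_apply]
    simp [← mul_assoc, ht, Char.extendByZero_coe]

variable {t i r w : G} {K U A T P : Subgroup G} {q k a M : ℕ} {Q : ℤ}

/-- The exponent `1 / 2`. -/
def half (q : ℕ) : ℕ := (q ^ 3 + 1) / 2

theorem two_half (S : Sec t i r w K U A T q a M Q) : 2 * half q = q ^ 3 + 1 :=
  Nat.mul_div_cancel' (even_iff_two_dvd.1 (S.odd_q.pow.add_odd odd_one))

theorem Borel.pow_card [Finite G] (B : Borel t K U P q) {x : G} (hx : x ∈ P) : x ^ q ^ 3 = 1 := by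
  rw [← B.card]
  exact congrArg Subtype.val (pow_card_eq_one' (x := (⟨x, hx⟩ : P)))

theorem Borel.sq_pow_half [Finite G] (B : Borel t K U P q) (S : Sec t i r w K U A T q a M Q) {x : G} (hx : x ∈ P) :
    (x * x) ^ half q = x := by
  rw [← pow_two, ← pow_mul, two_half S, pow_succ, B.pow_card hx, one_mul]

theorem Borel.pow_half_sq [Finite G] (B : Borel t K U P q) (S : Sec t i r w K U A T q a M Q) {x : G} (hx : x ∈ P) :
    x ^ half q * x ^ half q = x := by
  rw [← pow_two, ← pow_mul, mul_comm, two_half S, pow_succ, B.pow_card hx, one_mul]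

theorem Borel.t_not [Finite G] (B : Borel t K U P q) (S : Sec t i r w K U A T q a M Q) : t ∉ P := fun h => by
  have h1 : Odd (orderOf t) :=
    S.odd_q.pow.of_dvd_nat (B.card ▸ Subgroup.orderOf_dvd_natCard P h)
  rw [S.order_t] at h1
  exact absurd h1 (by decide)

theorem Borel.pair_mem (B : Borel t K U P q) (S : Sec t i r w K U A T q a M Q) {x : G} (hx : x ∈ P) :
    x * (t * x * t) ∈ U := by
  refine B.cent _ (mul_mem hx (B.norm_t x hx)) ?_
  show x * (t * x * t) * t = t * (x * (t * x * t))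
  rw [show x * (t * x * t) * t = x * t * x * (t * t) by group, S.tt, mul_one,
    B.comm x hx _ (B.norm_t x hx), show t * (t * x * t * x) = (t * t) * x * t * x by group, S.tt, one_mul]

/-- The projection of `P` on `U`. -/
def proj (B : Borel t K U P q) (S : Sec t i r w K U A T q a M Q) : ↥P →* ↥U where
  toFun x := ⟨((x : G) * (t * x * t)) ^ half q, pow_mem (B.pair_mem S x.2) _⟩
  map_one' := Subtype.ext (by simp [S.tt])
  map_mul' x y := Subtype.ext (by
    show ((x : G) * y * (t * ((x : G) * y) * t)) ^ half q =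
      ((x : G) * (t * x * t)) ^ half q * ((y : G) * (t * y * t)) ^ half q
    have hx := mul_mem x.2 (B.norm_t x x.2)
    have hy := mul_mem y.2 (B.norm_t y y.2)
    rw [← (show Commute ((x : G) * (t * x * t)) ((y : G) * (t * y * t)) from B.comm _ hx _ hy).mul_pow]
    congr 1
    calc (x : G) * y * (t * ((x : G) * y) * t) = x * y * ((t * x) * 1 * (y * t)) := by group
      _ = x * y * ((t * x) * (t * t) * (y * t)) := by rw [S.tt]
      _ = x * ((y : G) * (t * x * t)) * (t * y * t) := by group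
      _ = x * (t * x * t * (y : G)) * (t * y * t) := by rw [B.comm _ y.2 _ (B.norm_t x x.2)]
      _ = _ := by group)

theorem proj_coe (B : Borel t K U P q) (S : Sec t i r w K U A T q a M Q) (x : P) :
    (proj B S x : G) = ((x : G) * (t * x * t)) ^ half q := rfl

theorem proj_U [Finite G] (B : Borel t K U P q) (S : Sec t i r w K U A T q a M Q) (u : U) :
    proj B S ⟨u, B.le u.2⟩ = u := by
  refine Subtype.ext ?_
  show ((u : G) * (t * u * t)) ^ half q = u
  rw [(S.comm_K u (S.U_le u.2)).eq, mul_assoc, S.tt, mul_one, B.sq_pow_half S (B.le u.2)]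

theorem proj_t (B : Borel t K U P q) (S : Sec t i r w K U A T q a M Q) (x : P) :
    proj B S ⟨t * x * t, B.norm_t x x.2⟩ = proj B S x := by
  refine Subtype.ext ?_
  show (t * (x : G) * t * (t * (t * (x : G) * t) * t)) ^ half q = ((x : G) * (t * x * t)) ^ half q
  rw [show t * (t * (x : G) * t) * t = (t * t) * x * (t * t) by group, S.tt, one_mul, mul_one,
    B.comm _ (B.norm_t x x.2) _ x.2]

/-- `t x` is conjugate to `t u` for the projection `u` of `x`. -/
theorem exists_conj_proj [Finite G] (B : Borel t K U P q) (S : Sec t i r w K U A T q a M Q) (x : P) :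
    ∃ z : G, z * (t * (proj B S x : G)) * z⁻¹ = t * (x : G) := by
  obtain ⟨u, hudef⟩ : ∃ u : G, u = (proj B S x : G) := ⟨_, rfl⟩
  rw [← hudef]
  have hu : u ∈ U := hudef ▸ (proj B S x).2
  have huP := B.le hu
  set y := (x : G) * u⁻¹ with hy
  have hyP : y ∈ P := mul_mem x.2 (inv_mem huP)
  have hty : t * y * t = y⁻¹ := by
    refine eq_inv_of_mul_eq_one_left ?_
    have h1 : t * u⁻¹ * t = u⁻¹ := by
      rw [(S.comm_K _ (inv_mem (S.U_le hu))).eq, mul_assoc, S.tt, mul_one]
    have h2 : u * u = (x : G) * (t * x * t) := by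
      rw [hudef, proj_coe]; exact B.pow_half_sq S (mul_mem x.2 (B.norm_t x x.2))
    have e : t * y * t = t * x * t * u⁻¹ := by
      rw [hy, show t * ((x : G) * u⁻¹) * t = t * x * 1 * u⁻¹ * t by group, ← S.tt]
      calc t * (x : G) * (t * t) * u⁻¹ * t = t * x * t * (t * u⁻¹ * t) := by group
        _ = _ := by rw [h1]
    rw [e, hy, B.comm _ (mul_mem (B.norm_t x x.2) (inv_mem huP)) _ (mul_mem x.2 (inv_mem huP))]
    calc (x : G) * u⁻¹ * (t * x * t * u⁻¹) = x * (u⁻¹ * (t * x * t)) * u⁻¹ := by group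
      _ = x * (t * x * t * u⁻¹) * u⁻¹ := by rw [B.comm _ (inv_mem huP) _ (B.norm_t x x.2)]
      _ = (x * (t * x * t)) * (u * u)⁻¹ := by group
      _ = 1 := by rw [← h2, mul_inv_cancel]
  set z := y ^ half q with hz
  have hzP : z ∈ P := pow_mem hyP _
  have htz : t * z * t = z⁻¹ := by
    have := conj_pow (a := t) (b := y) (i := half q)
    rw [S.t_inv] at this
    rw [hz, ← this, hty, inv_pow]
  refine ⟨z⁻¹, ?_⟩
  have htz' : z⁻¹ * t = t * z := by
    rw [← htz, show t * z * t * t = t * z * (t * t) by group, S.tt, mul_one]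
  calc z⁻¹ * (t * u) * z⁻¹⁻¹ = z⁻¹ * t * (u * z) := by group
    _ = t * z * (z * u) := by rw [htz', B.comm u huP z hzP]
    _ = t * (z * z * u) := by group
    _ = t * (y * u) := by rw [hz, B.pow_half_sq S hyP]
    _ = t * (x : G) := by rw [hy, inv_mul_cancel_right]

/-- Sums over `P` of functions of the projection. -/
theorem sum_proj [Finite G] [Fintype P] [Fintype U] (B : Borel t K U P q) (S : Sec t i r w K U A T q a M Q)
    (f : U → ℂ) : ∑ x : P, f (proj B S x) = (q : ℂ) ^ 2 * ∑ v : U, f v := by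
  classical
  set π := proj B S
  have hker : ∀ x : P, π (x * (⟨π x, B.le (π x).2⟩ : P)⁻¹) = 1 := fun x => by
    rw [map_mul, map_inv, proj_U B S, mul_inv_cancel]
  let e : P ≃ U × π.ker :=
    { toFun := fun x => (π x, ⟨x * (⟨π x, B.le (π x).2⟩ : P)⁻¹, hker x⟩)
      invFun := fun z => (z.2 : P) * ⟨z.1, B.le z.1.2⟩
      left_inv := fun x => inv_mul_cancel_right x _
      right_inv := fun z => by
        have h1 : π ((z.2 : P) * ⟨z.1, B.le z.1.2⟩) = z.1 := by
          rw [map_mul, z.2.2, one_mul, proj_U B S]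
        refine Prod.ext h1 (Subtype.ext ?_)
        show (z.2 : P) * ⟨z.1, B.le z.1.2⟩ * (⟨_, _⟩ : P)⁻¹ = z.2
        simp only [h1, mul_inv_cancel_right] }
  have hc : Nat.card π.ker = q ^ 2 := by
    have h := Nat.card_congr e
    rw [Nat.card_prod, B.card, S.card_U, show q ^ 3 = q * q ^ 2 by ring] at h
    exact (Nat.eq_of_mul_eq_mul_left S.q_pos h).symm
  rw [Fintype.sum_equiv e (fun x => f (π x)) (fun z => f z.1) (fun x => rfl), Fintype.sum_prod_type,
    Finset.mul_sum]
  exact Finset.sum_congr rfl fun v _ => by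
    show ∑ _y : π.ker, f v = _
    rw [Finset.sum_const, Finset.card_univ, ← Nat.card_eq_fintype_card, hc, nsmul_eq_mul]
    push_cast; ring

/-- The extension of `l` to `P`. -/
noncomputable def alpha (B : Borel t K U P q) (S : Sec t i r w K U A T q a M Q) (l : ↥U →* ℂˣ) :
    ↥P →* ℂˣ := l.comp (proj B S)

theorem alpha_t (B : Borel t K U P q) (S : Sec t i r w K U A T q a M Q) (l : ↥U →* ℂˣ) (x : P) :
    alpha B S l ⟨t * x * t, B.norm_t x x.2⟩ = alpha B S l x := congrArg l (proj_t B S x)

theorem alpha_U [Finite G] (B : Borel t K U P q) (S : Sec t i r w K U A T q a M Q) (l : ↥U →* ℂˣ) (u : U) :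
    alpha B S l ⟨u, B.le u.2⟩ = l u := congrArg l (proj_U B S u)

variable [Fintype G]

open scoped Classical in
/-- Twists of `α` by elements of the point stabiliser, summed against `α`. -/
theorem sum_twist [Fintype P] (B : Borel t K U P q) (S : Sec t i r w K U A T q a M Q) {l : ↥U →* ℂˣ}
    (hl : l ≠ 1) (g : G) :
    ∑ x : P, lin (alpha B S l) x * conj (extendByZero P (lin (alpha B S l)) (g⁻¹ * x * g)) =
      (if g ∈ pExt t P S.tt B.norm_t then (q : ℂ) ^ 3 else 0) +
        (if g ∈ borel t K U P then 0 else 1) := by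
  set α := alpha B S l with hα
  have hEH : ∀ h ∈ pExt t P S.tt B.norm_t, h ∈ borel t K U P := fun h hh => by
    rcases hh with hh | hh
    · exact mem_sup_left hh
    · rw [← eq_t_mul S.tt h]
      exact mul_mem (mem_sup_right (mem_sup_right (mem_zpowers t))) (mem_sup_left hh)
  by_cases hg : g ∈ borel t K U P
  · have hconj : ∀ x : P, g⁻¹ * (x : G) * g ∈ P := fun x => by
      simpa using (mem_normalizer_iff.1 (inv_mem (B.norm hg)) (x : G)).1 x.2
    let β : ↥P →* ↥P :=
      { toFun := fun x => ⟨g⁻¹ * x * g, hconj x⟩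
        map_one' := Subtype.ext (by simp)
        map_mul' := fun x y => Subtype.ext (by simp [mul_assoc]) }
    have hterm : ∀ x : P, lin α x * conj (extendByZero P (lin α) (g⁻¹ * x * g)) =
        lin α x * lin (α.comp β)⁻¹ x := fun x => by
      rw [Char.extendByZero_mem P _ (hconj x), ← conj_lin_apply]; rfl
    rw [Finset.sum_congr rfl fun x _ => hterm x, sum_lin_mul, hom_inv_inv, B.card, Nat.cast_pow,
      if_pos hg, add_zero]
    refine if_congr ⟨fun h => ?_, fun h => MonoidHom.ext fun x => ?_⟩ rfl rfl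
    · obtain ⟨p, hp, j, hj, rfl⟩ := (B.mem_borel g).1 hg
      have key : ∀ (b : G) (hb : b ∈ normK K U),
          (∀ u : U, l ⟨b⁻¹ * u * b, conj_mem_U ⟨b, hb⟩ u.2⟩ = l u) → b ∈ U := fun b hb h' => (S.twK_eq_self_iff hl ⟨b, hb⟩).1 (MonoidHom.ext h')
      rcases hj with hj | hj
      · refine Or.inl (mul_mem hp (B.le (key j hj fun u => ?_)))
        have h1 := congrArg (fun f : ↥P →* ℂˣ => f ⟨u, B.le u.2⟩) h
        simp only [MonoidHom.comp_apply] at h1
        rw [hα, alpha_U] at h1
        refine Eq.trans ?_ h1.symm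
        rw [← alpha_U B S l ⟨_, conj_mem_U ⟨j, hj⟩ u.2⟩]
        refine congrArg _ (Subtype.ext ?_)
        show j⁻¹ * (u : G) * j = (p * j)⁻¹ * (u : G) * (p * j)
        rw [show (p * j)⁻¹ * (u : G) * (p * j) = j⁻¹ * (p⁻¹ * ((u : G) * p)) * j by group,
          B.comm _ (B.le u.2) _ hp, inv_mul_cancel_left]
      · refine Or.inr ?_
        have e : t * (p * j) = (t * p * t) * (t * j) := by
          rw [show t * p * t * (t * j) = t * p * (t * t) * j by group, S.tt, mul_one, mul_assoc]
        rw [e]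
        refine mul_mem (B.norm_t p hp) (B.le (key _ hj fun u => ?_))
        have h1 := congrArg (fun f : ↥P →* ℂˣ => f ⟨u, B.le u.2⟩) h
        simp only [MonoidHom.comp_apply] at h1
        rw [hα, alpha_U] at h1
        refine Eq.trans ?_ h1.symm
        rw [← alpha_U B S l ⟨_, conj_mem_U ⟨t * j, hj⟩ u.2⟩]
        refine congrArg _ (Subtype.ext ?_)
        show (t * j)⁻¹ * (u : G) * (t * j) = (p * j)⁻¹ * (u : G) * (p * j)
        rw [show (p * j)⁻¹ * (u : G) * (p * j) = j⁻¹ * (p⁻¹ * ((u : G) * p)) * j by group,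
          B.comm _ (B.le u.2) _ hp, inv_mul_cancel_left,
          show (t * j)⁻¹ * (u : G) * (t * j) = j⁻¹ * (t⁻¹ * ((u : G) * t)) * j by group,
          ← (S.comm_K _ (S.U_le u.2)).eq, inv_mul_cancel_left]
    · rw [MonoidHom.comp_apply]
      rcases h with h | h
      · refine congrArg α (Subtype.ext ?_)
        show (x : G) = g⁻¹ * x * g
        rw [mul_assoc, B.comm _ x.2 _ h, inv_mul_cancel_left]
      · rw [hα, ← alpha_t B S l x]
        refine congrArg _ (Subtype.ext ?_)
        show t * (x : G) * t = g⁻¹ * x * g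
        calc t * (x : G) * t = (t * g)⁻¹ * ((t * g) * (t * x * t)) := (inv_mul_cancel_left _ _).symm
          _ = (t * g)⁻¹ * ((t * x * t) * (t * g)) := by rw [B.comm _ h _ (B.norm_t x x.2)]
          _ = g⁻¹ * (t⁻¹ * t) * x * (t * t) * g := by group
          _ = _ := by rw [inv_mul_cancel, S.tt, mul_one, mul_one]
  · have hg' : g⁻¹ ∉ borel t K U P := fun h => hg (by simpa using inv_mem h)
    rw [if_neg hg, if_neg (fun h => hg (hEH g h)), zero_add, Finset.sum_eq_single (1 : P)]
    · simp [Char.extendByZero_mem P _ (one_mem P), lin_apply, show (⟨1, one_mem P⟩ : ↥P) = 1 from rfl]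
    · intro x _ hx
      rw [Char.extendByZero_not_mem P _ fun hm => hx (Subtype.ext (B.ti g⁻¹ hg' x x.2
        (by rwa [inv_inv]))), map_zero, mul_zero]
    · exact fun h => absurd (Finset.mem_univ _) h

/-- The characters. -/
theorem exists_split (S : Sec t i r w K U A T q a M Q) (B : Borel t K U P q)
    (hG : Nat.card G = q ^ 3 * ((q ^ 3 + 1) * (q - 1))) {l : ↥U →* ℂˣ} (hl : l ≠ 1) :
    ∃ F₁ F₂ Ψ : G → ℂ, IsCharacter G F₁ ∧ IsCharacter G F₂ ∧ IsCharacter G Ψ ∧
      (∀ χ : G → ℂ, IsClassFunction G χ →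
        classInner F₁ χ + classInner F₂ χ = classInner Ψ χ ∧
        classInner F₁ χ - classInner F₂ χ = classInner (twInd t U (lin l)) χ) ∧
      classInner Ψ Ψ = (q : ℂ) + 1 ∧
      (∀ χ : G → ℂ, IsClassFunction G χ → (∀ x ∈ P, χ x = 0) → classInner Ψ χ = 0) ∧
      classInner (twInd t U (lin l)) Ψ = 0 := by
  classical
  letI : Fintype P := Fintype.ofFinite P
  letI : Fintype U := Fintype.ofFinite U
  letI : Fintype (pExt t P S.tt B.norm_t) := Fintype.ofFinite _
  set α := alpha B S l with hα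
  set htP := B.t_not S with hhtP
  set f₁ := extHom S.tt B.norm_t htP α (alpha_t B S l) 1 (one_mul 1)
  set f₂ := extHom S.tt B.norm_t htP α (alpha_t B S l) (-1) (by ring)
  set Ψ := indFun P (lin α) with hΨ
  have hq : (q : ℂ) ≠ 0 := Nat.cast_ne_zero.2 S.q_pos.ne'
  have hcE : Nat.card (pExt t P S.tt B.norm_t) = 2 * q ^ 3 := by
    rw [← Nat.card_congr (pExtEquiv S.tt B.norm_t htP), Nat.card_prod, B.card,
      Nat.card_eq_fintype_card (α := Bool), Fintype.card_bool]
  have hP : ∀ χ : G → ℂ, IsClassFunction G χ →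
      classInner Ψ χ = ((q : ℂ) ^ 3)⁻¹ * ∑ x : P, lin α x * conj (χ x) := fun χ hχ => by
    rw [hΨ, Char.frobenius_reciprocity P _ hχ, classInner, B.card, Nat.cast_pow]
  have hE : ∀ (ε : ℂ) (hε : ε * ε = 1) (χ : G → ℂ), IsClassFunction G χ →
      classInner (indFun (pExt t P S.tt B.norm_t) (extHom S.tt B.norm_t htP α (alpha_t B S l) ε hε)) χ =
        (2 * (q : ℂ) ^ 3)⁻¹ * (ε * (∑ x : P, lin α x * conj (χ (t * x))) +
          ∑ x : P, lin α x * conj (χ x)) := fun ε hε χ hχ => by
    rw [Char.frobenius_reciprocity _ _ hχ, classInner, hcE]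
    push_cast
    congr 1
    rw [← (pExtEquiv S.tt B.norm_t htP).sum_comp, Fintype.sum_prod_type, Fintype.sum_bool, Finset.mul_sum]
    congr 1 <;> refine Finset.sum_congr rfl fun x _ => ?_
    · rw [extHom_apply, pExtEquiv_apply, if_pos rfl, if_pos rfl]; ring
    · rw [extHom_apply, pExtEquiv_apply, if_neg Bool.false_ne_true, if_neg Bool.false_ne_true, one_mul, one_mul]
  refine ⟨indFun _ f₁, indFun _ f₂, Ψ, Char.IsCharacter.indFun _ (Char.isCharacter_of_hom f₁),
    Char.IsCharacter.indFun _ (Char.isCharacter_of_hom f₂), Char.IsCharacter.indFun _ (Char.isCharacter_of_hom _),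
    fun χ hχ => ⟨?_, ?_⟩, ?_, fun χ hχ h0 => ?_, ?_⟩
  · rw [hE _ _ χ hχ, hE _ _ χ hχ, hP χ hχ]
    field_simp
    ring
  · have hx : ∀ x : P, lin α x * conj (χ (t * x)) =
        lin l (proj B S x) * conj (χ (t * (proj B S x : G))) := fun x => by
      obtain ⟨z, hz⟩ := exists_conj_proj B S x
      rw [← hz, hχ]; rfl
    rw [hE _ _ χ hχ, hE _ _ χ hχ, twInd_inner S.tt U (lin l) hχ, S.card_U,
      Finset.sum_congr rfl (fun x _ => hx x), sum_proj B S fun v => lin l v * conj (χ (t * v))]
    field_simp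
    ring
  · rw [hP Ψ (Char.indFun_isClassFunction _ _)]
    have e : ∀ x : P, lin α x * conj (Ψ x) = ((q : ℂ) ^ 3)⁻¹ *
        ∑ g : G, lin α x * conj (extendByZero P (lin α) (g⁻¹ * x * g)) := fun x => by
      simp only [hΨ, indFun, B.card, Nat.cast_pow, map_mul, map_inv₀, map_pow, map_natCast, map_sum,
        Finset.mul_sum]
      exact Finset.sum_congr rfl fun g _ => by ring
    rw [Finset.sum_congr rfl (fun x _ => e x), ← Finset.mul_sum, Finset.sum_comm,
      Finset.sum_congr rfl (fun g _ => sum_twist B S hl g), Finset.sum_add_distrib]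
    simp only [Finset.sum_ite, Finset.sum_const_zero, add_zero, zero_add, Finset.sum_const, nsmul_eq_mul,
      mul_one]
    have h1 : (Finset.univ.filter fun g : G => g ∈ pExt t P S.tt B.norm_t).card = 2 * q ^ 3 := by
      rw [← hcE, Nat.card_eq_fintype_card, Fintype.card_subtype]
    have h2 : (Finset.univ.filter fun g : G => g ∉ borel t K U P).card = q ^ 3 * (q ^ 3 * (q - 1)) := by
      have hs := Finset.card_filter_add_card_filter_not (s := (Finset.univ : Finset G))
        (fun g : G => g ∈ borel t K U P)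
      have hb : (Finset.univ.filter fun g : G => g ∈ borel t K U P).card = q ^ 3 * (q - 1) := by
        rw [← B.card_borel, Nat.card_eq_fintype_card, Fintype.card_subtype]
      rw [hb, Finset.card_univ, ← Nat.card_eq_fintype_card, hG,
        show q ^ 3 * ((q ^ 3 + 1) * (q - 1)) = q ^ 3 * (q - 1) + q ^ 3 * (q ^ 3 * (q - 1)) by ring] at hs
      omega
    rw [h1, h2, Nat.cast_mul, Nat.cast_mul, Nat.cast_mul, Nat.cast_pow, Nat.cast_sub S.q_pos, Nat.cast_one,
      Nat.cast_two]
    field_simp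
    ring
  · rw [hP χ hχ, Finset.sum_eq_zero fun x _ => by rw [h0 x x.2, map_zero, mul_zero], mul_zero]
  · rw [twInd_inner S.tt U _ (Char.indFun_isClassFunction _ _)]
    refine mul_eq_zero_of_right _ (Finset.sum_eq_zero fun v _ => ?_)
    have hz : Ψ (t * (v : G)) = 0 := by
      refine mul_eq_zero_of_right _ (Finset.sum_eq_zero fun g _ => Char.extendByZero_not_mem _ _ fun hm => ?_)
      have h1 := B.pow_card hm
      have h2 := conj_pow (a := g⁻¹) (b := t * (v : G)) (i := q ^ 3)
      rw [inv_inv, h1] at h2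
      have h3 : (t * (v : G)) ^ q ^ 3 = 1 := by
        have := h2.symm
        rwa [mul_eq_one_iff_eq_inv, mul_eq_left] at this
      have h4 : (t * (v : G)) ^ q ^ 3 = t := by
        obtain ⟨j, hj⟩ := (S.odd_q.pow : Odd (q ^ 3))
        rw [(S.comm_K v (S.U_le v.2)).mul_pow, B.pow_card (B.le v.2), mul_one, hj, pow_succ, pow_mul,
          pow_two, S.tt, one_pow, one_mul]
      exact S.t_ne_one (h4 ▸ h3)
    rw [show indFun P (lin α) (t * (v : G)) = 0 from hz, map_zero, mul_zero]

end Cfsg.Agent.AbelianSylow.ReeSylow
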